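import Groth.Agent.AlgStLib.LocQInst
import Groth.Agent.AlgSpWA.RegImmSp
import Groth.Agent.S1491

/-!
# Local complete intersection morphisms of stacks cancel smooth morphisms
-/

set_option backward.isDefEq.respectTransparency false
set_option backward.isDefEq.respectTransparency.types false

universe u

open CategoryTheory CategoryTheory.Functor CategoryTheory.Limits AlgebraicGeometry Opposite AlgSp

namespace Groth.Agent.AlgStLci

open Groth.Agent.FibBase Groth.Agent.AlgSpLib Groth.Agent.AlgStLib Groth.Agent.AlgSpPts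
open Groth.Agent.KRegLib (IsLCI' forall_isKoszulAt_iff)

variable {S : Scheme.{u}} {𝒳 𝒴 𝒵 : AlgSt.Cat S}

theorem isLCI'_of_isLCIMor_yon {U V : Over S} {h : U ⟶ V} (H : IsLCIMor ((yon S).map h)) : IsLCI' h.left :=
  (forall_isKoszulAt_iff _).1 fun u => H (𝟙 _) (𝟙 _) h
    (repWith_of_isIso _ _) (repWith_of_isIso _ _) (by simp) u

theorem isLCIMor_yon_of_forall {U V : Over S} {h : U ⟶ V} (H : ∀ u, Synt.IsKoszulAt h.left u) :
    IsLCIMor ((yon S).map h) := by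
  rw [AlgSpDec.LciLocus.isLCIMor_iff (IsAlgSpace.yon_obj U) (IsAlgSpace.yon_obj V)]
  intro x
  obtain ⟨u, rfl⟩ := surjective_ofPt (repWith_of_isIso @Surjective (𝟙 ((yon S).obj U))) x
  exact (AlgSpDec.LciLocus.mem_koszulSet_iff (h := h) (b := 𝟙 ((yon S).obj V)) (repWith_of_isIso _ _) (repWith_of_isIso _ _) (by simp) u).2 (H u)

theorem locQ_lci_of_comp (h𝒳 : AlgSt.IsAlgStack Scheme.fppfPrecoverage 𝒳)
    (h𝒴 : AlgSt.IsAlgStack Scheme.fppfPrecoverage 𝒴) (h𝒵 : AlgSt.IsAlgStack Scheme.fppfPrecoverage 𝒵)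
    {f : 𝒳 ⥤ᵇ 𝒴} {q : 𝒴 ⥤ᵇ 𝒵} {p : 𝒳 ⥤ᵇ 𝒵} (e : BasedFunctor.comp f q ≅ p)
    (hq : AlgSt.LocQ (LocP @Smooth) q) (hp : AlgSt.LocQ IsLCIMor p) : AlgSt.LocQ IsLCIMor f := by
  obtain ⟨U₀, W₀, x₀, z₀, h₀, α, hx₀, hx₀', hz₀, hh₀⟩ := hp
  obtain ⟨V, d, hd, hd'⟩ := exists_atlas_fp h𝒴 (isAlgStack_overCat W₀) h𝒵 q z₀
  obtain ⟨k, ⟨ik⟩⟩ := exists_mapB (BasedFunctor.comp d (FibCat.fpSnd q z₀))
  have hk : Smooth k.left :=
    locP_yon_map (((locQ_iff_locQS isSmoothLocalST_smooth h𝒴 h𝒵 q).1 hq).scheme d hz₀ hd ik.symm)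
  let γ : FibCat.overCat U₀ ⥤ᵇ FibCat.fp q z₀ :=
    FibCat.fpLift (BasedFunctor.comp x₀ f) (AlgSt.overMap h₀) (whiskerLeftIso x₀ e ≪≫ α)
  have hfp := isAlgStack_fp h𝒴 (isAlgStack_overCat W₀) h𝒵.isStack h𝒵.diag q z₀
  obtain ⟨U, c, hc, hc'⟩ := exists_atlas_fp (isAlgStack_overCat U₀) (isAlgStack_overCat V) hfp γ d
  obtain ⟨r, ⟨ir⟩⟩ := exists_mapB (BasedFunctor.comp c (FibCat.fpFst γ d))
  obtain ⟨m, ⟨im⟩⟩ := exists_mapB (BasedFunctor.comp c (FibCat.fpSnd γ d))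
  have hg := fp_isFibGrpd (F := γ) (G := d) (isFibGrpd_overCat U₀) (isFibGrpd_overCat V) hfp.isStack.1
  have hcr : AlgSt.RepByAlgSpWith (LocP @Smooth) (BasedFunctor.comp c (FibCat.fpFst γ d)) :=
    repByAlgSpWith_locP_comp (isFibGrpd_overCat U) hg hc (repByAlgSpWith_fpFst γ hd)
  have hcr' : AlgSt.RepByAlgSpWith IsSurjectiveMor (BasedFunctor.comp c (FibCat.fpFst γ d)) :=
    repByAlgSpWith_isSurjectiveMor_comp (isFibGrpd_overCat U) hg hc' (repByAlgSpWith_fpFst γ hd')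
  have hfz := fp_isFibGrpd (F := q) (G := z₀) h𝒴.isStack.1 (isFibGrpd_overCat W₀) h𝒵.isStack.1
  have hy : AlgSt.RepByAlgSpWith (LocP @Smooth) (BasedFunctor.comp d (FibCat.fpFst q z₀)) :=
    repByAlgSpWith_locP_comp (isFibGrpd_overCat V) hfz hd (repByAlgSpWith_fpFst q hz₀)
  let j : BasedFunctor.comp (BasedFunctor.comp (BasedFunctor.comp c (FibCat.fpFst γ d)) x₀) f ≅
      BasedFunctor.comp (AlgSt.overMap m) (BasedFunctor.comp d (FibCat.fpFst q z₀)) :=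
    whiskerRightIso (whiskerLeftIso c (FibCat.fpIso γ d) ≪≫ whiskerRightIso im.symm d) (FibCat.fpFst q z₀)
  have hw : m ≫ k = r ≫ h₀ := (yon S).map_injective
    ((spHom_toOverCat_comp
      (whiskerRightIso (whiskerLeftIso c (FibCat.fpIso γ d) ≪≫ whiskerRightIso im.symm d) (FibCat.fpSnd q z₀) ≪≫
        whiskerLeftIso (AlgSt.overMap m) ik.symm ≪≫ overMapCompIso m k)).symm.trans
      (spHom_toOverCat_comp (G := BasedFunctor.comp (BasedFunctor.comp (BasedFunctor.comp c (FibCat.fpFst γ d)) γ)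
        (FibCat.fpSnd q z₀)) (whiskerRightIso ir.symm (AlgSt.overMap h₀) ≪≫ overMapCompIso r h₀)))
  have hr : Smooth r.left := by
    have h₂ : RepBySpWith (LocP @Smooth) ((yon S).map r).hom :=
      repBySpWith_of_repByAlgSpWith _ (AlgSt.toOverCat U) stableBC_locP (isEquivOver_toOverCat U)
        (repByAlgSpWith_postcomp (isEquivOver_ofOverCat U₀) hcr)
        (isoOfSpMap (BasedFunctor.comp (AlgSt.toOverCat U)
            (BasedFunctor.comp (BasedFunctor.comp c (FibCat.fpFst γ d)) (AlgSt.ofOverCat U₀))) ≪≫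
          eqToIso (congrArg (fun t => AlgSt.ofSpMap t) (spHom_toOverCat_comp ir.symm)))
    exact locP_yon_map ((repBySpWith_hom_iff _ _).1 h₂ (𝟙 _) (𝟙 _) _
      (IsPullback.of_horiz_isIso ⟨by simp⟩)).2
  have h₁ : ∀ u, Synt.IsKoszulAt (m ≫ k).left u := by
    rw [hw, forall_isKoszulAt_iff, Over.comp_left]
    exact MorphismProperty.comp_mem _ _ _ (AlgSpDec.LciLocus.isLCI'_of_smooth r.left) (isLCI'_of_isLCIMor_yon hh₀)
  refine ⟨U, V, _, _, m, j, repByAlgSpWith_locP_comp (isFibGrpd_overCat U) (isFibGrpd_overCat U₀) hcr hx₀,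
    repByAlgSpWith_isSurjectiveMor_comp (isFibGrpd_overCat U) (isFibGrpd_overCat U₀) hcr' hx₀', hy,
    isLCIMor_yon_of_forall fun u => ?_⟩
  exact KRegLib.isKoszulAt_of_comp_smooth m.left k.left h₁ u

end Groth.Agent.AlgStLci
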